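import Cfsg.Agent.H537.CopDefs
import Cfsg.Agent.H647.SpF.CoNotTwentyFive
import Cfsg.Agent.H898.RowCo
import Cfsg.Agent.BpSpor.CoThreeFive
import Cfsg.Agent.H848.McLLocal
import Cfsg.Agent.H805.NilHS
import Cfsg.Agent.Prune
set_option linter.all false
prune_inst 0x7f00000000000000000000000000000000000000000000000000000000000000000000000000000000000000000000000000000000000000000000000000000000000000000000000000000000000000003fffffffffffffffffffffffffffbeffbdffffffff
open scoped Cfsg.Agent.FastGrp

/-!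
# Centralizer facts for McL and HS (helper647, for S4175)
-/

set_option autoImplicit false

namespace Cfsg.Agent.H647.SpF

open Cfsg Subgroup Module Cfsg.Agent.H537.Cop
open Cfsg.Agent.SigZeroCo2.Rank (fix mem_fix)
open Cfsg.Agent.SigZeroCo2.Lin (rep Sp rep_injective)
open Cfsg.Agent.PreUniqCo.LatCo

/-! ### Tools -/

theorem card_cent_dvd {G K : Type*} [Group G] [Group K] {f : G →* K} (hf : Function.Injective f) (x : G) :
    Nat.card (centralizer ({x} : Set G)) ∣ Nat.card (centralizer ({f x} : Set K)) := by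
  rw [Nat.card_congr ((centralizer ({x} : Set G)).equivMapOfInjective f hf).toEquiv]
  apply card_dvd_of_le
  rintro _ ⟨y, hy, rfl⟩
  rw [mem_centralizer_singleton_iff, ← map_mul, mem_centralizer_singleton_iff.1 hy, map_mul]

theorem not_dvd_cent {G : Type*} [Group G] [Finite G] {x : G} {r : ℕ} (hr : r.Prime)
    (h : ∀ y : G, orderOf y = r → x * y ≠ y * x) : ¬ r ∣ Nat.card (centralizer ({x} : Set G)) := by
  intro hd
  have : Fact r.Prime := ⟨hr⟩
  obtain ⟨y, hy⟩ := exists_prime_orderOf_dvd_card' r hd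
  exact h y (by rw [orderOf_coe, hy]) (mem_centralizer_singleton_iff.1 y.2).symm

theorem dvd_cent {G : Type*} [Group G] {x y : G} (h : x * y = y * x) :
    orderOf y ∣ Nat.card (centralizer ({x} : Set G)) := by
  have h1 := orderOf_dvd_natCard (⟨y, mem_centralizer_singleton_iff.2 h.symm⟩ : centralizer ({x} : Set G))
  rwa [Subgroup.orderOf_mk] at h1

/-- the Sylow `r`-subgroup has order `r` -/
theorem card_cent_eq_of_prime {G : Type*} [Group G] [Finite G] {r m : ℕ} (hr : r.Prime) (hc : Nat.card G = r * m)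
    (hm : ¬ r ∣ m) {x y : G} (hx : orderOf x = r) (hy : orderOf y = r) :
    Nat.card (centralizer ({x} : Set G)) = Nat.card (centralizer ({y} : Set G)) := by
  have : Fact r.Prime := ⟨hr⟩
  have hm0 : m ≠ 0 := by
    rintro rfl
    exact hm (dvd_zero r)
  have hfac : (Nat.card G).factorization r = 1 := by
    rw [hc, Nat.factorization_mul hr.ne_zero hm0, Finsupp.add_apply, hr.factorization_self,
      Nat.factorization_eq_zero_of_not_dvd hm]
  let P : Sylow r G := Sylow.ofCard (zpowers x) (by rw [Nat.card_zpowers, hx, hfac, pow_one])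
  let Q : Sylow r G := Sylow.ofCard (zpowers y) (by rw [Nat.card_zpowers, hy, hfac, pow_one])
  obtain ⟨g, hg⟩ := MulAction.exists_smul_eq G P Q
  have hmem : g * x * g⁻¹ ∈ zpowers y := by
    have h1 : (Q : Subgroup G) = zpowers y := rfl
    rw [← h1, ← hg, Sylow.coe_subgroup_smul]
    exact ⟨x, mem_zpowers x, rfl⟩
  have hcz : ∀ a : G, centralizer (zpowers a : Set G) = centralizer ({a} : Set G) := by
    intro a
    rw [zpowers_eq_closure, centralizer_closure]
  have hz : zpowers (g * x * g⁻¹) = zpowers y := by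
    apply eq_of_le_of_card_ge
    · rw [zpowers_le]; exact hmem
    · have ho : orderOf (g * x * g⁻¹) = r := by
        rw [← hx]
        exact (MulAut.conj g).orderOf_eq x
      rw [Nat.card_zpowers, Nat.card_zpowers, hy, ho]
  have h1 : Nat.card (centralizer ({g * x * g⁻¹} : Set G)) = Nat.card (centralizer ({x} : Set G)) :=
    Cfsg.Agent.Blocks.SylowIn.card_centralizer_of_isConj (isConj_iff.2 ⟨g, rfl⟩ : IsConj x _)
  rw [← h1, ← hcz, hz, hcz]

/-- no element of order 7 commutes with an element of order 11 -/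
theorem seven_eleven {g h : Co0} (hg : orderOf g = 7) (hh : orderOf h = 11) (hc : Commute g h) : False := by
  obtain ⟨k, hk⟩ := Cfsg.Agent.H898.RowCo0.pair (by norm_num : Nat.Prime 11) (by norm_num : Nat.Prime 7) (by norm_num)
    (Cfsg.Agent.H898.RowCo0.rep_commute hc.symm) (Cfsg.Agent.H898.RowCo0.rep_pow_one hh)
    (Cfsg.Agent.H898.RowCo0.rep_pow_one hg)
  have h2 := Cfsg.Agent.H898.RowCo0.fix_eleven hh
  have h3 := Cfsg.Agent.H898.RowCo0.fix_le_eight' (by norm_num : Nat.Prime 7) (by norm_num) hg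
  rw [Cfsg.Agent.CpAutCoFive.finrank_Sp, h2] at hk
  have hle : finrank ℚ (fix (rep h) ⊓ fix (rep g) : Submodule ℚ Sp) ≤ 4 := by
    rw [← h2]
    exact Submodule.finrank_mono inf_le_left
  omega

/-! ### McL -/

namespace McL

theorem card : Nat.card Spor.McL = 898128000 := Cfsg.Agent.H848.McLLocal.facts.2.2.1

theorem finite : Finite Spor.McL := Cfsg.Agent.H848.McLLocal.facts.1

theorem sc_eleven : SC 11 Spor.McL := fun _ hx => Cfsg.Agent.H848.McLLocal.card_eleven hx

/-- the embedding in `Co3` -/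
def toCo3 : Spor.McL →* Spor.Co3 := Subgroup.inclusion (inf_le_left : Spor.McL ≤ Spor.Co3)

theorem toCo3_injective : Function.Injective toCo3 := Subgroup.inclusion_injective _

theorem five {x : Spor.McL} (hx : orderOf x = 5) :
    Nat.card (centralizer ({x} : Set Spor.McL)) ∣ 2 ^ 5 * 3 * 5 ^ 3 :=
  (card_cent_dvd toCo3_injective x).trans
    (Cfsg.Agent.BpSpor.CoThreeFive.card_dvd ((orderOf_injective toCo3 toCo3_injective x).trans hx))

theorem cb_five_three : CB 5 3 1 Spor.McL := fun x hx hd => by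
  have h := hd.trans (five hx)
  norm_num at h

theorem cb_five_seven : CB 5 7 0 Spor.McL := fun x hx hd => by
  have h := hd.trans (five hx)
  norm_num at h

theorem seven {x : Spor.McL} (hx : orderOf x = 7) : Nat.card (centralizer ({x} : Set Spor.McL)) = 14 := by
  have := finite
  obtain ⟨y, hy, hc⟩ := Cfsg.Agent.H848.McLLocal.mcl_seven
  rw [card_cent_eq_of_prime (r := 7) (m := 128304000) (by norm_num) (by rw [card]) (by norm_num) hx hy, hc]

theorem cb_seven_two : CB 7 2 1 Spor.McL := fun x hx hd => by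
  rw [seven hx] at hd
  norm_num at hd

theorem fix_v (x : Spor.McL) : Cfsg.Agent.H848.McLLocal.iota x • Spor.leechV = Spor.leechV := x.2.1.2

/-- `25` does not divide the order of the centralizer of an element of order three -/
theorem cb_three_five' : CB 3 5 1 Spor.McL := fun x hx hd => by
  have := finite
  exact CoThree.not_25_cent Cfsg.Agent.H848.McLLocal.iota_injective Cfsg.Agent.PreUniqCo.Rows.leechV_ne fix_v hx hd

theorem cb_three_five : CB 3 5 2 Spor.McL := cb_three_five'.mono (by norm_num)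

theorem cb_two_five : CB 2 5 1 Spor.McL := fun x hx hd => by
  obtain ⟨-, -, -, ⟨L⟩⟩ := Cfsg.Agent.H848.McLLocal.facts
  rw [Cfsg.Agent.H848.McLLocal.card_t L hx] at hd
  norm_num at hd

end McL

/-! ### HS -/

namespace HS

theorem card : Nat.card Spor.HS = 44352000 := KFacts.HS.card ⟨MulEquiv.refl _⟩

theorem finite : Finite Spor.HS := Nat.finite_of_card_ne_zero (by rw [card]; norm_num)

/-- the embedding in `Co3` -/
def toCo3 : Spor.HS →* Spor.Co3 := Subgroup.inclusion (inf_le_left : Spor.HS ≤ Spor.Co3)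

theorem toCo3_injective : Function.Injective toCo3 := Subgroup.inclusion_injective _

theorem le_co0 : Spor.HS ≤ Co0 := inf_le_left.trans inf_le_left

/-- the embedding in `Co0` -/
def toCo0 : Spor.HS →* Co0 := Subgroup.inclusion le_co0

theorem toCo0_injective : Function.Injective toCo0 := Subgroup.inclusion_injective _

theorem fix_v (x : Spor.HS) : toCo0 x • Spor.leechV = Spor.leechV := x.2.1.2

theorem five {x : Spor.HS} (hx : orderOf x = 5) :
    Nat.card (centralizer ({x} : Set Spor.HS)) ∣ 2 ^ 5 * 3 * 5 ^ 3 :=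
  (card_cent_dvd toCo3_injective x).trans
    (Cfsg.Agent.BpSpor.CoThreeFive.card_dvd ((orderOf_injective toCo3 toCo3_injective x).trans hx))

theorem cb_five_two : CB 5 2 5 Spor.HS := fun x hx hd => by
  have h := hd.trans (five hx)
  norm_num at h

theorem cb_three_two : CB 3 2 5 Spor.HS := fun x hx hd => by
  have := finite
  obtain ⟨D⟩ := KFacts.HS.exists_mod (L := Spor.HS) ⟨MulEquiv.refl _⟩
  exact Cfsg.Agent.BpSpor.Cen.not_dvd_of_bd Nat.prime_three (by norm_num) hx
    (fun t ht => Cfsg.Agent.BpSpor.HSInv.bd D (Or.inl rfl) t ht) (by simpa using hd)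

theorem involution (t : Spor.HS) (ht : orderOf t = 2) :
    Nat.card ↥(centralizer ({t} : Set Spor.HS)) ∣ 2 ^ 9 * 3 ^ 2 * 5 := by
  have := finite
  obtain ⟨D⟩ := KFacts.HS.exists_mod (L := Spor.HS) ⟨MulEquiv.refl _⟩
  have htt : t * t = 1 := by rw [← pow_two, ← ht, pow_orderOf_eq_one]
  have ht1 : t ≠ 1 := by
    rintro rfl
    rw [orderOf_one] at ht
    omega
  rcases KFacts.HS.DFour.inv_cases D t htt ht1 with ⟨c, h⟩ | ⟨c, h⟩
  · rw [Cfsg.Agent.Blocks.SylowIn.card_centralizer_of_isConj (isConj_iff.2 ⟨c, h⟩), ← BpSpor.HSInv.z_eq,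
      D.card_centralizer]
    norm_num
  · rw [Cfsg.Agent.Blocks.SylowIn.card_centralizer_of_isConj (isConj_iff.2 ⟨c, h⟩)]
    exact (H805.NilSp.card_cent_wB D card).trans (by norm_num)

theorem cb_two_five : CB 2 5 1 Spor.HS := fun x hx hd => by
  have h := hd.trans (involution x hx)
  norm_num at h

theorem cb_two_seven : CB 2 7 0 Spor.HS := fun x hx hd => by
  have h := hd.trans (involution x hx)
  norm_num at h

theorem cb_five_three : CB 5 3 1 Spor.HS := fun x hx hd => by
  have h := hd.trans (five hx)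
  norm_num at h

theorem sc_eleven : SC 11 Spor.HS := by
  intro x hx
  have := finite
  have hcomm : ∀ {y : Spor.HS}, x * y = y * x → Commute (toCo0 y) (toCo0 x) := fun {y} h => by
    rw [Commute, SemiconjBy, ← map_mul, ← h, map_mul]
  have ox : orderOf (toCo0 x) = 11 := (orderOf_injective toCo0 toCo0_injective x).trans hx
  have ord : ∀ y, orderOf (toCo0 y) = orderOf y := fun y => orderOf_injective toCo0 toCo0_injective y
  have h2 : ¬ 2 ∣ Nat.card (centralizer ({x} : Set Spor.HS)) := by
    refine not_dvd_cent Nat.prime_two fun t ht h => ?_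
    have h1 := (dvd_cent h.symm).trans (involution t ht)
    rw [hx] at h1
    norm_num at h1
  have h3 : ¬ 3 ∣ Nat.card (centralizer ({x} : Set Spor.HS)) := by
    refine not_dvd_cent Nat.prime_three fun y hy h => ?_
    exact Cfsg.Agent.CpAutCoFive.finrank_fix_ne_zero Cfsg.Agent.PreUniqCo.Rows.leechV_ne (fix_v y)
      (Cfsg.Agent.H898.RowCo0.three_eleven ((ord y).trans hy) ox (hcomm h))
  have h5 : ¬ 5 ∣ Nat.card (centralizer ({x} : Set Spor.HS)) :=
    not_dvd_cent Nat.prime_five fun y hy h =>
      Cfsg.Agent.H898.RowCo0.five_eleven ((ord y).trans hy) ox (hcomm h)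
  have h7 : ¬ 7 ∣ Nat.card (centralizer ({x} : Set Spor.HS)) :=
    not_dvd_cent (by norm_num) fun y hy h => seven_eleven ((ord y).trans hy) ox (hcomm h)
  have h11 : 11 ∣ Nat.card (centralizer ({x} : Set Spor.HS)) := by
    have := dvd_cent (x := x) (y := x) rfl
    rwa [hx] at this
  have hd : Nat.card (centralizer ({x} : Set Spor.HS)) ∣ 11 * (2 ^ 9 * 3 ^ 2 * 5 ^ 3 * 7) := by
    have := card_subgroup_dvd_card (centralizer ({x} : Set Spor.HS))
    rw [card] at this
    exact this.trans (by norm_num)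
  have cop : ∀ {r : ℕ}, r.Prime → ¬ r ∣ Nat.card (centralizer ({x} : Set Spor.HS)) → ∀ k,
      (Nat.card (centralizer ({x} : Set Spor.HS))).Coprime (r ^ k) := fun hr h k =>
    ((Nat.Prime.coprime_iff_not_dvd hr).2 h).symm.pow_right k
  have h12 := Nat.Coprime.dvd_of_dvd_mul_right
    ((((cop Nat.prime_two h2 9).mul_right (cop Nat.prime_three h3 2)).mul_right (cop Nat.prime_five h5 3)).mul_right
      (by simpa using cop (by norm_num : Nat.Prime 7) h7 1)) hd
  exact Nat.dvd_antisymm h12 h11

end HS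

end Cfsg.Agent.H647.SpF
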